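import Cfsg.Agent.H20.UFourTwoCheck
import Cfsg.Agent.Symplectic.Center
import Cfsg.Agent.Symplectic.Order
import Cfsg.Agent.Unitary.Center
import Cfsg.Agent.Unitary.Order

/-!
`PSU₄(2) ≅ PSp₄(3)`: both act faithfully on 40 points, and the transvection at a symplectic point
induces the same permutation as the reflection of order three at the corresponding nonsingular
hermitian point.
-/

set_option autoImplicit false

namespace Cfsg.Agent.H20.UFourTwo

open Matrix

/-- A linear action which permutes forty pairwise non-proportional points gives a hom. -/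
theorem exists_action {G F ι : Type*} [Group G] [Field F] [Fintype ι] [DecidableEq ι]
    (ρ : G →* Matrix ι ι F) (P : Fin 40 → ι → F) (h0 : ∀ i, P i ≠ 0)
    (hu : ∀ (i j : Fin 40) (d : F), P i = d • P j → i = j)
    (hc : ∀ g i, ∃ j, ∃ d : F, ρ g *ᵥ P i = d • P j) :
    ∃ φ : G →* Equiv.Perm (Fin 40), (∀ g i, ∃ d : F, ρ g *ᵥ P i = d • P (φ g i)) ∧
      ∀ g i j, (∃ d : F, ρ g *ᵥ P i = d • P j) → φ g i = j := by
  choose f hf using hc
  have uniq : ∀ g i j, (∃ d : F, ρ g *ᵥ P i = d • P j) → f g i = j := by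
    rintro g i j ⟨d, hd⟩
    obtain ⟨e, he⟩ := hf g i
    have hd0 : d ≠ 0 := by
      rintro rfl
      rw [zero_smul] at hd
      have h := congrArg (ρ g⁻¹ *ᵥ ·) hd
      simp only [Matrix.mulVec_mulVec, ← map_mul, inv_mul_cancel, map_one, Matrix.one_mulVec,
        Matrix.mulVec_zero] at h
      exact h0 i h
    refine (hu j (f g i) (d⁻¹ * e) ?_).symm
    rw [mul_smul, ← he, hd, inv_smul_smul₀ hd0]
  let φ₀ : G →* Function.End (Fin 40) :=
    { toFun := f
      map_one' := funext fun i => uniq 1 i i ⟨1, by rw [map_one, one_mulVec, one_smul]⟩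
      map_mul' := fun g h => funext fun i => by
        obtain ⟨d, hd⟩ := hf h i
        obtain ⟨e, he⟩ := hf g (f h i)
        exact uniq (g * h) i (f g (f h i))
          ⟨d * e, by rw [map_mul, ← mulVec_mulVec, hd, mulVec_smul, he, smul_smul]⟩ }
  exact ⟨φ₀.toHomPerm, hf, uniq⟩

theorem all_range {n : ℕ} {p : ℕ → Bool} (h : (List.range n).all p = true) {i : ℕ} (hi : i < n) :
    p i = true :=
  List.all_eq_true.1 h i (List.mem_range.2 hi)

/-- The transvection or reflection table. -/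
def table (i j : Fin 40) : Fin 40 :=
  ⟨tableN i j, of_decide_eq_true (all_range (all_range tableN_lt i.2) j.2)⟩

section Symplectic

variable {K : Type*} [Field K] [CharP K 3]

/-- A symplectic point as a vector. -/
def vecS (i : ℕ) : Fin 2 ⊕ Fin 2 → K :=
  Sum.elim ![(pointS i 0 : K), (pointS i 1 : K)] ![(pointS i 2 : K), (pointS i 3 : K)]

theorem cast_eq {a b : ℕ} (h : a % 3 = b % 3) : (a : K) = (b : K) :=
  (CharP.natCast_eq_natCast K 3).2 h

theorem cast_mod (a : ℕ) : ((a % 3 : ℕ) : K) = a := cast_eq (Nat.mod_mod a 3)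

theorem pointS_lt (i k : ℕ) : pointS i k < 3 := Nat.mod_lt _ (by norm_num)

variable [Fintype K]

omit [CharP K 3] in
theorem exists_nat [CharP K 3] (hK : Fintype.card K = 3) (x : K) : ∃ n : ℕ, n < 3 ∧ (n : K) = x := by
  have hinj : Function.Injective fun n : Fin 3 => ((n : ℕ) : K) := fun a b h => by
    have := (CharP.natCast_eq_natCast K 3).1 h
    exact Fin.ext (by rw [Nat.ModEq] at this; omega)
  obtain ⟨n, hn⟩ := ((Fintype.bijective_iff_injective_and_card _).2
    ⟨hinj, by rw [hK, Fintype.card_fin]⟩).2 x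
  exact ⟨n, n.2, hn⟩

theorem vecS_ne (i : Fin 40) : (vecS i : Fin 2 ⊕ Fin 2 → K) ≠ 0 := by
  intro h
  obtain ⟨k, hk, hne⟩ := List.any_eq_true.1 (all_range vS_ne i.2)
  rw [List.mem_range] at hk
  have hz : ((pointS i k : ℕ) : K) = ((0 : ℕ) : K) := by
    have h0 := congrFun h (Sum.inl 0)
    have h1 := congrFun h (Sum.inl 1)
    have h2 := congrFun h (Sum.inr 0)
    have h3 := congrFun h (Sum.inr 1)
    interval_cases k <;> simpa [vecS] using by assumption
  have := (CharP.natCast_eq_natCast K 3).1 hz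
  have := pointS_lt i k
  simp_all [Nat.ModEq, Nat.mod_eq_of_lt]

theorem vecS_smul_iff {i j : ℕ} {d : ℕ} :
    (∀ k < 4, pointS i k = d * pointS j k % 3) ↔
      (vecS i : Fin 2 ⊕ Fin 2 → K) = (d : K) • vecS j := by
  have key : ∀ k, (pointS i k = d * pointS j k % 3 ↔ (pointS i k : K) = (d : K) * pointS j k) := by
    intro k
    rw [← Nat.cast_mul]
    constructor
    · intro h; rw [h, cast_mod]
    · intro h
      have := (CharP.natCast_eq_natCast K 3).1 h
      rw [Nat.ModEq] at this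
      rw [← this, Nat.mod_eq_of_lt (pointS_lt i k)]
  constructor
  · intro h
    funext x
    rcases x with x | x <;> fin_cases x <;>
      simp [vecS, (key _).1 (h _ (by norm_num : (0:ℕ) < 4)), (key _).1 (h _ (by norm_num : (1:ℕ) < 4)),
        (key _).1 (h _ (by norm_num : (2:ℕ) < 4)), (key _).1 (h _ (by norm_num : (3:ℕ) < 4))]
  · intro h k hk
    rw [key]
    have h0 := congrFun h (Sum.inl 0)
    have h1 := congrFun h (Sum.inl 1)
    have h2 := congrFun h (Sum.inr 0)
    have h3 := congrFun h (Sum.inr 1)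
    simp [vecS] at h0 h1 h2 h3
    interval_cases k <;> assumption

theorem vecS_unique (hK : Fintype.card K = 3) (i j : Fin 40) (d : K)
    (h : (vecS i : Fin 2 ⊕ Fin 2 → K) = d • vecS j) : i = j := by
  obtain ⟨n, hn, rfl⟩ := exists_nat hK d
  have hc := all_range (all_range (all_range vS_unique i.2) j.2) hn
  simp only [Bool.or_eq_true, beq_iff_eq, Bool.not_eq_true'] at hc
  rcases hc with hc | hc
  · exact Fin.ext hc
  · exfalso
    rw [List.all_eq_false] at hc
    obtain ⟨k, hk, hne⟩ := hc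
    exact hne (by simpa using (vecS_smul_iff.2 h) k (List.mem_range.1 hk))

theorem vecS_cover (hK : Fintype.card K = 3) (v : Fin 2 ⊕ Fin 2 → K) (hv : v ≠ 0) :
    ∃ j : Fin 40, ∃ d : K, v = d • vecS j := by
  obtain ⟨a, ha, hva⟩ := exists_nat hK (v (Sum.inl 0))
  obtain ⟨b, hb, hvb⟩ := exists_nat hK (v (Sum.inl 1))
  obtain ⟨c, hc, hvc⟩ := exists_nat hK (v (Sum.inr 0))
  obtain ⟨e, he, hve⟩ := exists_nat hK (v (Sum.inr 1))
  have h := all_range vS_cover (i := a + 3 * b + 9 * c + 27 * e) (by omega)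
  simp only [Bool.or_eq_true, beq_iff_eq, List.any_eq_true, List.all_eq_true, List.mem_range] at h
  rcases h with h | ⟨j, hj, d, -, hd⟩
  · obtain ⟨rfl, rfl, rfl, rfl⟩ : a = 0 ∧ b = 0 ∧ c = 0 ∧ e = 0 := by omega
    refine absurd (funext fun x => ?_) hv
    rcases x with x | x <;> fin_cases x <;> simp [← hva, ← hvb, ← hvc, ← hve]
  have h0 : (a + 3 * b + 9 * c + 27 * e) / 3 ^ 0 % 3 = a := by omega
  have h1 : (a + 3 * b + 9 * c + 27 * e) / 3 ^ 1 % 3 = b := by omega
  have h2 : (a + 3 * b + 9 * c + 27 * e) / 3 ^ 2 % 3 = c := by omega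
  have h3 : (a + 3 * b + 9 * c + 27 * e) / 3 ^ 3 % 3 = e := by omega
  refine ⟨⟨j, hj⟩, d, funext fun x => ?_⟩
  have e0 := hd 0 (by norm_num)
  have e1 := hd 1 (by norm_num)
  have e2 := hd 2 (by norm_num)
  have e3 := hd 3 (by norm_num)
  rw [h0] at e0; rw [h1] at e1; rw [h2] at e2; rw [h3] at e3
  rw [e0, cast_mod, Nat.cast_mul] at hva
  rw [e1, cast_mod, Nat.cast_mul] at hvb
  rw [e2, cast_mod, Nat.cast_mul] at hvc
  rw [e3, cast_mod, Nat.cast_mul] at hve
  rcases x with x | x <;> fin_cases x <;> simp [vecS, hva, hvb, hvc, hve]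

omit [Fintype K] in
theorem sympForm_vecS (i j : ℕ) :
    Cfsg.sympForm 2 K (vecS j) (vecS i) = (sfC (pointS j) (pointS i) : K) := by
  have h2 : ((2 : ℕ) : K) = -1 := by
    rw [eq_neg_iff_add_eq_zero, ← Nat.cast_one, ← Nat.cast_add]
    exact CharP.cast_eq_zero K 3
  rw [sfC, cast_mod, Symplectic.sympForm_eq, Fin.sum_univ_two]
  simp only [Nat.cast_add, Nat.cast_mul, h2]
  simp [vecS]
  ring

omit [Fintype K] in
theorem T_vecS (i j : Fin 40) :
    ∃ d : K, ((Symplectic.T (vecS i) 1 : Matrix.symplecticGroup (Fin 2) K) :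
      Symplectic.Mat 2 K) *ᵥ vecS j = d • vecS (table i j) := by
  have hT := all_range (all_range table_S i.2) j.2
  simp only [List.any_eq_true, List.all_eq_true, List.mem_range, beq_iff_eq] at hT
  obtain ⟨d, -, hd⟩ := hT
  refine ⟨d, ?_⟩
  rw [Symplectic.T_mulVec, one_mul, sympForm_vecS]
  have e : ∀ k < 4, (pointS j k : K) + (sfC (pointS j) (pointS i) : K) * pointS i k =
      (d : K) * pointS (table i j) k := by
    intro k hk
    rw [← Nat.cast_mul, ← Nat.cast_add, ← Nat.cast_mul]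
    exact cast_eq (by have := hd k hk; simpa [table] using this)
  funext x
  rcases x with x | x <;> fin_cases x <;> simp [vecS] <;> exact e _ (by norm_num)

theorem exists_phiS (hK : Fintype.card K = 3) :
    ∃ φ : Matrix.symplecticGroup (Fin 2) K →* Equiv.Perm (Fin 40),
      φ.ker = Subgroup.center (Matrix.symplecticGroup (Fin 2) K) ∧
        ∀ i j : Fin 40, φ (Symplectic.T (vecS i) 1) j = table i j := by
  obtain ⟨φ, hφ, huq⟩ := exists_action (Submonoid.subtype (Matrix.symplecticGroup (Fin 2) K))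
    (fun i : Fin 40 => vecS i) vecS_ne (vecS_unique hK)
    (fun g i => vecS_cover hK _ (Symplectic.sp_mulVec_ne_zero g (vecS_ne i)))
  refine ⟨φ, ?_, fun i j => huq _ _ _ (T_vecS i j)⟩
  ext g
  rw [MonoidHom.mem_ker, Symplectic.mem_center_iff]
  constructor
  · intro hg
    have key : ∀ v, ∃ a : K, (g : Symplectic.Mat 2 K) *ᵥ v = a • v := by
      intro v
      by_cases hv : v = 0
      · exact ⟨0, by simp [hv]⟩
      obtain ⟨j, d, rfl⟩ := vecS_cover hK v hv
      obtain ⟨e, he⟩ := hφ g j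
      rw [hg] at he
      exact ⟨e, by rw [mulVec_smul]; exact (congrArg (d • ·) he).trans (smul_comm d e _)⟩
    obtain ⟨a, ha⟩ := LinearMap.exists_eq_smul_id_of_forall_notLinearIndependent
      (f := Matrix.toLin' (g : Symplectic.Mat 2 K)) (fun v => by
        obtain ⟨a, ha⟩ := key v
        intro hli
        have := (LinearIndependent.pair_iff.mp hli) a (-1) (by simp [Matrix.toLin'_apply, ha])
        simp at this)
    exact ⟨a, fun v => by simpa using LinearMap.congr_fun ha v⟩
  · rintro ⟨c, hc⟩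
    exact Equiv.ext fun i => huq g i i ⟨c, hc _⟩

end Symplectic

section Unitary

variable {F : Type*} [Field F] [Fintype F]

/-- Decoding of `0, 1, 2, 3` as `0, 1, ω, 1 + ω`. -/
def dcd (w : F) : ℕ → F
  | 0 => 0
  | 1 => 1
  | 2 => w
  | _ => 1 + w

/-- A hermitian point as a vector. -/
def vecU (w : F) (i : ℕ) : Fin 4 → F := fun k => dcd w (pointU i k)

theorem exists_omega (hF : Fintype.card F = 4) : ∃ w : F, w * w = 1 + w := by
  classical
  haveI : CharP F 2 := charP_of_card_eq_prime_pow (p := 2) (f := 2) (by rw [hF]; norm_num)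
  obtain ⟨x, -, hx⟩ : ∃ x ∈ (Finset.univ : Finset F), x ∉ ({0, 1} : Finset F) :=
    Finset.exists_mem_notMem_of_card_lt_card (by
      rw [Finset.card_univ, hF]; exact (Finset.card_le_two).trans_lt (by norm_num))
  simp only [Finset.mem_insert, Finset.mem_singleton, not_or] at hx
  have h4 : x ^ 4 = x := by rw [← hF]; exact FiniteField.pow_card x
  have h2 : (2 : F) = 0 := CharP.cast_eq_zero F 2
  have hne : x * (x - 1) ≠ 0 := mul_ne_zero hx.1 (sub_ne_zero.2 hx.2)
  have : x * (x - 1) * (x * x + x + 1) = 0 := by linear_combination h4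
  refine ⟨x, ?_⟩
  have h3 := (mul_eq_zero.1 this).resolve_left hne
  linear_combination h3 - (1 + x) * h2

variable [CharP F 2] {w : F}

theorem pointU_lt (i k : ℕ) : pointU i k < 4 := Nat.mod_lt _ (by norm_num)

omit [Fintype F] in
theorem dcd_add (w : F) {a b : ℕ} (ha : a < 4) (hb : b < 4) :
    dcd w (a ^^^ b) = dcd w a + dcd w b := by
  have h2 : (2 : F) = 0 := CharP.cast_eq_zero F 2
  interval_cases a <;> interval_cases b <;> simp [dcd] <;>
    first
      | ring1
      | linear_combination h2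
      | linear_combination (-1 : F) * h2
      | linear_combination w * h2
      | linear_combination (-w) * h2
      | linear_combination (1 + w) * h2
      | linear_combination (-(1 + w)) * h2

omit [Fintype F] in
theorem dcd_mul (hw : w * w = 1 + w) {a b : ℕ} (ha : a < 4) (hb : b < 4) :
    dcd w (mulC a b) = dcd w a * dcd w b := by
  have h2 : (2 : F) = 0 := CharP.cast_eq_zero F 2
  interval_cases a <;> interval_cases b <;> simp [dcd, mulC] <;>
    first
      | ring1
      | linear_combination (-1 : F) * hw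
      | linear_combination (-1 : F) * hw - w * h2
      | linear_combination (-1 : F) * hw - (1 + w) * h2
      | linear_combination (-1 : F) * hw - (1 : F) * h2

theorem mulC_lt {a b : ℕ} : mulC a b < 4 := by
  unfold mulC
  cases (a == 0 || b == 0) <;> simp <;> omega

omit [Fintype F] in
theorem dcd_eq_zero (hw : w * w = 1 + w) {a : ℕ} (ha : a < 4) (h : dcd w a = 0) : a = 0 := by
  interval_cases a
  · rfl
  · exact absurd h one_ne_zero
  · exfalso; simp only [dcd] at h; rw [h] at hw; simp at hw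
  · exfalso; simp only [dcd] at h; rw [h] at hw
    have : w = 0 := by simpa using (mul_self_eq_zero.1 hw)
    rw [this] at h; simp at h

theorem xor_lt_four {a b : ℕ} (ha : a < 4) (hb : b < 4) : a ^^^ b < 4 :=
  Nat.xor_lt_two_pow (n := 2) ha hb

omit [Fintype F] in
theorem dcd_inj (hw : w * w = 1 + w) {a b : ℕ} (ha : a < 4) (hb : b < 4)
    (h : dcd w a = dcd w b) : a = b := by
  have h0 : dcd w (a ^^^ b) = 0 := by rw [dcd_add w ha hb, h, CharTwo.add_self_eq_zero]
  exact xor_eq_zero_iff.1 (dcd_eq_zero hw (xor_lt_four ha hb) h0)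

theorem exists_code (hF : Fintype.card F = 4) (hw : w * w = 1 + w) (x : F) :
    ∃ n < 4, dcd w n = x := by
  obtain ⟨n, hn⟩ := ((Fintype.bijective_iff_injective_and_card fun n : Fin 4 => dcd w n).2
    ⟨fun a b h => Fin.ext (dcd_inj hw a.2 b.2 h), by rw [hF, Fintype.card_fin]⟩).2 x
  exact ⟨n, n.2, hn⟩

omit [Fintype F] in
theorem dcd_sum4 (hw : w * w = 1 + w) {a b c d e f g h : ℕ} (ha : a < 4) (hb : b < 4) (hc : c < 4)
    (hd : d < 4) (he : e < 4) (hf : f < 4) (hg : g < 4) (hh : h < 4) :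
    dcd w (mulC a b ^^^ mulC c d ^^^ mulC e f ^^^ mulC g h) =
      dcd w a * dcd w b + dcd w c * dcd w d + dcd w e * dcd w f + dcd w g * dcd w h := by
  rw [dcd_add w (xor_lt_four (xor_lt_four mulC_lt mulC_lt) mulC_lt) mulC_lt,
    dcd_add w (xor_lt_four mulC_lt mulC_lt) mulC_lt, dcd_add w mulC_lt mulC_lt,
    dcd_mul hw ha hb, dcd_mul hw hc hd, dcd_mul hw he hf, dcd_mul hw hg hh]

omit [Fintype F] in
theorem herm_eq (u v : Fin 4 → F) :
    Cfsg.hermForm 4 F 2 u v =
      u 0 * v 0 ^ 2 + u 1 * v 1 ^ 2 + u 2 * v 2 ^ 2 + u 3 * v 3 ^ 2 := by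
  simp [Cfsg.hermForm, Fin.sum_univ_four]

omit [Fintype F] in
theorem herm_code (hw : w * w = 1 + w) {a b c d : ℕ} (ha : a < 4) (hb : b < 4) (hc : c < 4)
    (hd : d < 4) :
    Cfsg.hermForm 4 F 2 ![dcd w a, dcd w b, dcd w c, dcd w d] ![dcd w a, dcd w b, dcd w c, dcd w d] =
      dcd w (cubeC a ^^^ cubeC b ^^^ cubeC c ^^^ cubeC d) := by
  rw [herm_eq]
  simp only [cubeC]
  rw [dcd_sum4 hw ha mulC_lt hb mulC_lt hc mulC_lt hd mulC_lt, dcd_mul hw ha ha, dcd_mul hw hb hb,
    dcd_mul hw hc hc, dcd_mul hw hd hd]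
  simp [sq]

omit [Fintype F] in
theorem vecU_eq (i : ℕ) :
    (vecU w i : Fin 4 → F) =
      ![dcd w (pointU i 0), dcd w (pointU i 1), dcd w (pointU i 2), dcd w (pointU i 3)] := by
  funext k
  fin_cases k <;> rfl

omit [Fintype F] in
theorem herm_vecU (hw : w * w = 1 + w) (i : Fin 40) :
    Cfsg.hermForm 4 F 2 (vecU w i) (vecU w i) = 1 := by
  rw [vecU_eq, herm_code hw (pointU_lt _ _) (pointU_lt _ _) (pointU_lt _ _) (pointU_lt _ _),
    beq_iff_eq.1 (all_range vU_norm i.2)]
  rfl

omit [Fintype F] in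
theorem vecU_ne (hw : w * w = 1 + w) (i : Fin 40) : (vecU w i : Fin 4 → F) ≠ 0 := fun h => by
  have := herm_vecU hw i
  rw [h] at this
  simp [Cfsg.hermForm] at this

omit [Fintype F] in
theorem vecU_smul_iff (hw : w * w = 1 + w) {i j d : ℕ} (hd : d < 4) :
    (∀ k < 4, pointU i k = mulC d (pointU j k)) ↔
      (vecU w i : Fin 4 → F) = dcd w d • vecU w j := by
  constructor
  · intro h
    funext k
    simp only [vecU, Pi.smul_apply, smul_eq_mul]
    rw [h k k.2, dcd_mul hw hd (pointU_lt _ _)]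
  · intro h k hk
    refine dcd_inj hw (pointU_lt _ _) mulC_lt ?_
    rw [dcd_mul hw hd (pointU_lt _ _)]
    exact congrFun h ⟨k, hk⟩

theorem vecU_unique (hF : Fintype.card F = 4) (hw : w * w = 1 + w) (i j : Fin 40) (d : F)
    (h : (vecU w i : Fin 4 → F) = d • vecU w j) : i = j := by
  obtain ⟨n, hn, rfl⟩ := exists_code hF hw d
  have hc := all_range (all_range (all_range vU_unique i.2) j.2) hn
  simp only [Bool.or_eq_true, beq_iff_eq, Bool.not_eq_true'] at hc
  rcases hc with hc | hc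
  · exact Fin.ext hc
  · exfalso
    rw [List.all_eq_false] at hc
    obtain ⟨k, hk, hne⟩ := hc
    exact hne (by simpa using ((vecU_smul_iff hw hn).2 h) k (List.mem_range.1 hk))

theorem vecU_cover (hF : Fintype.card F = 4) (hw : w * w = 1 + w) (v : Fin 4 → F)
    (hv : Cfsg.hermForm 4 F 2 v v ≠ 0) : ∃ j : Fin 40, ∃ d : F, v = d • vecU w j := by
  obtain ⟨a, ha, hva⟩ := exists_code hF hw (v 0)
  obtain ⟨b, hb, hvb⟩ := exists_code hF hw (v 1)
  obtain ⟨c, hc, hvc⟩ := exists_code hF hw (v 2)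
  obtain ⟨e, he, hve⟩ := exists_code hF hw (v 3)
  have hv' : v = ![dcd w a, dcd w b, dcd w c, dcd w e] := by
    funext k
    fin_cases k <;> simp [hva, hvb, hvc, hve]
  have h := all_range vU_cover (i := a + 4 * b + 16 * c + 64 * e) (by omega)
  have h0 : (a + 4 * b + 16 * c + 64 * e) % 4 = a := by omega
  have h1 : (a + 4 * b + 16 * c + 64 * e) / 4 % 4 = b := by omega
  have h2 : (a + 4 * b + 16 * c + 64 * e) / 16 % 4 = c := by omega
  have h3 : (a + 4 * b + 16 * c + 64 * e) / 64 % 4 = e := by omega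
  simp only [Bool.or_eq_true, beq_iff_eq, List.any_eq_true, List.all_eq_true, List.mem_range] at h
  rcases h with h | ⟨j, hj, d, hd4, hd⟩
  · rw [h0, h1, h2, h3] at h
    rw [hv', herm_code hw ha hb hc he, h] at hv
    exact absurd rfl hv
  refine ⟨⟨j, hj⟩, dcd w d, ?_⟩
  rw [hv']
  funext k
  have hk := hd k k.2
  simp only [Pi.smul_apply, smul_eq_mul, vecU]
  rw [← dcd_mul hw hd4 (pointU_lt _ _), ← hk]
  fin_cases k <;> simp [h0, h1, h2, h3]

/-- The reflection at a point, normalised to determinant one. -/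
def reflMat (w : F) (i : ℕ) : Matrix (Fin 4) (Fin 4) F :=
  w • (1 + vecMulVec (w • vecU w i) (fun c => vecU w i c ^ 2))

theorem reflC_lt (i r c : ℕ) : reflC i r c < 4 := mulC_lt

omit [Fintype F] in
theorem reflMat_apply (hw : w * w = 1 + w) (i : ℕ) (r c : Fin 4) :
    reflMat w i r c = dcd w (reflC i r c) := by
  have hb : (bif (r : ℕ) == (c : ℕ) then 1 else 0) < 4 := by
    cases ((r : ℕ) == (c : ℕ)) <;> simp
  have hd : (1 : Matrix (Fin 4) (Fin 4) F) r c = dcd w (bif (r : ℕ) == (c : ℕ) then 1 else 0) := by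
    by_cases h : r = c
    · subst h; simp [dcd]
    · rw [Matrix.one_apply_ne h, beq_false_of_ne (Fin.val_ne_of_ne h)]; rfl
  rw [reflC, sqC, dcd_mul hw (by norm_num) (xor_lt_four hb mulC_lt), dcd_add w hb mulC_lt,
    dcd_mul hw (by norm_num) mulC_lt, dcd_mul hw (pointU_lt _ _) mulC_lt,
    dcd_mul hw (pointU_lt _ _) (pointU_lt _ _)]
  simp only [reflMat, Matrix.smul_apply, Matrix.add_apply, hd, vecMulVec_apply, Pi.smul_apply,
    smul_eq_mul, vecU, sq]
  simp only [dcd]
  ring

omit [Fintype F] in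
theorem reflMat_det (hw : w * w = 1 + w) (i : Fin 40) : (reflMat w i).det = 1 := by
  have h := herm_vecU hw i
  rw [herm_eq] at h
  rw [reflMat, Matrix.det_smul, vecMulVec_eq (Fin 1),
    Matrix.det_one_add_replicateCol_mul_replicateRow, Fintype.card_fin]
  have hdot : (fun c => vecU w i c ^ 2) ⬝ᵥ (w • vecU w i) = w := by
    simp only [dotProduct, Fin.sum_univ_four, Pi.smul_apply, smul_eq_mul]
    linear_combination w * h
  rw [hdot]
  have h2 : (2 : F) = 0 := CharP.cast_eq_zero F 2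
  linear_combination (w ^ 3 + 2 * w ^ 2 + 3 * w + 5) * hw + (2 + 4 * w) * h2

theorem reflMat_preserves (hF : Fintype.card F = 4) (hw : w * w = 1 + w) (i : Fin 40) :
    Unitary.Preserves 2 (reflMat w i) := by
  rw [Unitary.preserves_iff_transpose_mul (by rw [hF]; norm_num)]
  ext r c
  have h := beq_iff_eq.1 (all_range (all_range (all_range refl_unitary i.2) r.2) c.2)
  simp only [Matrix.mul_apply, Fin.sum_univ_four, Matrix.transpose_apply, Matrix.map_apply,
    reflMat_apply hw, sq]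
  rw [← dcd_mul hw (reflC_lt _ _ _) (reflC_lt _ _ _), ← dcd_mul hw (reflC_lt _ _ _) (reflC_lt _ _ _),
    ← dcd_mul hw (reflC_lt _ _ _) (reflC_lt _ _ _), ← dcd_mul hw (reflC_lt _ _ _) (reflC_lt _ _ _)]
  rw [← dcd_sum4 hw (reflC_lt _ _ _) mulC_lt (reflC_lt _ _ _) mulC_lt (reflC_lt _ _ _) mulC_lt
    (reflC_lt _ _ _) mulC_lt]
  simp only [sqC] at h
  rw [show ((0 : Fin 4) : ℕ) = 0 from rfl, show ((1 : Fin 4) : ℕ) = 1 from rfl,
    show ((2 : Fin 4) : ℕ) = 2 from rfl, show ((3 : Fin 4) : ℕ) = 3 from rfl, h]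
  by_cases hrc : r = c
  · subst hrc; simp [dcd]
  · rw [Matrix.one_apply_ne hrc, beq_false_of_ne (Fin.val_ne_of_ne hrc)]; rfl

omit [Fintype F] in
theorem reflMat_vecU (hw : w * w = 1 + w) (i j : Fin 40) :
    ∃ d : F, reflMat w i *ᵥ vecU w j = d • vecU w (table i j) := by
  have hT := all_range (all_range table_U i.2) j.2
  simp only [List.any_eq_true, List.all_eq_true, List.mem_range, beq_iff_eq] at hT
  obtain ⟨d, hd4, hd⟩ := hT
  refine ⟨dcd w d, funext fun k => ?_⟩
  have h := congrArg (dcd w) (hd k k.2)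
  rw [dcd_sum4 hw (reflC_lt _ _ _) (pointU_lt _ _) (reflC_lt _ _ _) (pointU_lt _ _) (reflC_lt _ _ _)
    (pointU_lt _ _) (reflC_lt _ _ _) (pointU_lt _ _), dcd_mul hw hd4 (pointU_lt _ _)] at h
  simp only [Matrix.mulVec, dotProduct, Fin.sum_univ_four, reflMat_apply hw, vecU, Pi.smul_apply,
    smul_eq_mul]
  exact h

theorem exists_phiU (hF : Fintype.card F = 4) (hw : w * w = 1 + w) :
    ∃ φ : Cfsg.SU 4 F 2 →* Equiv.Perm (Fin 40),
      φ.ker = Subgroup.center (Cfsg.SU 4 F 2) ∧
        ∀ i : Fin 40, ∃ A : Cfsg.SU 4 F 2, ∀ j : Fin 40, φ A j = table i j := by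
  have hF2 : Fintype.card F = 2 ^ 2 := by rw [hF]; norm_num
  obtain ⟨φ, hφ, huq⟩ := exists_action ((Cfsg.slToMat 4 F).comp (Cfsg.SU 4 F 2).subtype)
    (fun i : Fin 40 => vecU w i) (vecU_ne hw) (vecU_unique hF hw)
    (fun A i => vecU_cover hF hw _ (by
      have h := A.2 (vecU w (i : ℕ)) (vecU w (i : ℕ))
      simp only [MonoidHom.comp_apply, Subgroup.subtype_apply] at h ⊢
      rw [h, herm_vecU hw i]; exact one_ne_zero))
  refine ⟨φ, ?_, fun i => ⟨Unitary.toSU (reflMat_preserves hF hw i) (reflMat_det hw i),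
    fun j => huq _ _ _ (reflMat_vecU hw i j)⟩⟩
  ext A
  rw [MonoidHom.mem_ker]
  constructor
  · intro hA
    have key : ∀ v, Cfsg.hermForm 4 F 2 v v ≠ 0 → ∃ a : F, Unitary.ap A v = a • v := by
      intro v hv
      obtain ⟨j, d, rfl⟩ := vecU_cover hF hw v hv
      obtain ⟨e, he⟩ := hφ A j
      rw [hA] at he
      exact ⟨e, by rw [Unitary.ap_smul]; exact (congrArg (d • ·) he).trans (smul_comm d e _)⟩
    have hs : ∀ k : Fin 4, Cfsg.hermForm 4 F 2 (Pi.single k 1) (Pi.single k 1) ≠ 0 := fun k => by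
      rw [Unitary.herm_single_single hF2, if_pos rfl]; exact one_ne_zero
    choose a ha using fun k => key _ (hs k)
    have hAv : ∀ v, Unitary.ap A v = fun k => a k * v k := by
      intro v
      conv_lhs => rw [pi_eq_sum_univ' v]
      simp only [Unitary.ap, Matrix.mulVec_sum, Matrix.mulVec_smul]
      simp only [← Unitary.ap_def, ha]
      funext k
      simp [Finset.sum_apply, Pi.single_apply, mul_comm]
    have h2 : (2 : F) = 0 := CharP.cast_eq_zero F 2
    have ht1 : Cfsg.hermForm 4 F 2 ![1, 1, 1, 0] ![(1 : F), 1, 1, 0] ≠ 0 := by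
      have : Cfsg.hermForm 4 F 2 ![1, 1, 1, 0] ![(1 : F), 1, 1, 0] = 1 := by
        rw [herm_eq]; simp; linear_combination h2
      rw [this]; exact one_ne_zero
    have ht2 : Cfsg.hermForm 4 F 2 ![0, 1, 1, 1] ![(0 : F), 1, 1, 1] ≠ 0 := by
      have : Cfsg.hermForm 4 F 2 ![0, 1, 1, 1] ![(0 : F), 1, 1, 1] = 1 := by
        rw [herm_eq]; simp; linear_combination h2
      rw [this]; exact one_ne_zero
    obtain ⟨l, hl⟩ := key _ ht1
    obtain ⟨l', hl'⟩ := key _ ht2
    rw [hAv] at hl hl'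
    have e0 := congrFun hl 0
    have e1 := congrFun hl 1
    have e2 := congrFun hl 2
    have f1 := congrFun hl' 1
    have f3 := congrFun hl' 3
    simp at e0 e1 e2 f1 f3
    refine Unitary.smul_mem_center (l := l) fun v => ?_
    rw [hAv]
    funext k
    fin_cases k <;> simp [e0, e1, e2, f3, ← f1, e1]
  · intro hA
    obtain ⟨l, hl⟩ := Unitary.eq_smul_of_mem_center hF2 (by norm_num) hA
    exact Equiv.ext fun i => huq A i i ⟨l, hl _⟩

end Unitary

universe u v

theorem psu_equiv_psp {F : Type u} {K : Type v} [Field F] [Fintype F] [Field K] [Fintype K]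
    (hF : Fintype.card F = 4) (hK : Fintype.card K = 3) :
    Nonempty (Cfsg.PSU 4 F 2 ≃* Cfsg.PSp 2 K) := by
  classical
  haveI : CharP K 3 := charP_of_card_eq_prime_pow (p := 3) (f := 1) (by rw [hK]; norm_num)
  haveI : CharP F 2 := charP_of_card_eq_prime_pow (p := 2) (f := 2) (by rw [hF]; norm_num)
  obtain ⟨w, hw⟩ := exists_omega hF
  obtain ⟨φS, kS, tS⟩ := exists_phiS hK
  obtain ⟨φU, kU, tU⟩ := exists_phiU hF hw
  have hle : φS.range ≤ φU.range := by
    rw [MonoidHom.range_eq_map, ← Symplectic.closure_TSet, MonoidHom.map_closure, Subgroup.closure_le]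
    rintro _ ⟨_, ⟨v, c, rfl⟩, rfl⟩
    by_cases hv : v = 0
    · have : Symplectic.T v c = 1 := Symplectic.sp_ext fun x => by
        simp [Symplectic.T_mulVec, hv]
      rw [this, map_one]
      exact one_mem _
    obtain ⟨j, d, rfl⟩ := vecS_cover hK v hv
    rw [Symplectic.T_smul]
    obtain ⟨n, -, hn⟩ := exists_nat hK (d ^ 2 * c)
    rw [← hn]
    have hpow : Symplectic.T (vecS (j : ℕ) : Fin 2 ⊕ Fin 2 → K) (n : K) =
        Symplectic.T (vecS (j : ℕ)) 1 ^ n := by
      clear hn
      induction n with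
      | zero => rw [Nat.cast_zero, Symplectic.T_zero, pow_zero]
      | succ n ih => rw [Nat.cast_succ, ← Symplectic.T_mul, ih, pow_succ]
    rw [hpow, map_pow]
    obtain ⟨A, hA⟩ := tU j
    refine pow_mem ?_ n
    exact ⟨A, Equiv.ext fun i => (hA i).trans (tS j i).symm⟩
  have hS : Nat.card φS.range = 25920 := by
    rw [← Subgroup.index_ker, kS]
    show Nat.card (Cfsg.PSp 2 K) = 25920
    rw [Symplectic.card_psp 2 K (by norm_num), hK]
    simp [Finset.prod_range_succ]
  have hU : Nat.card φU.range = 25920 := by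
    rw [← Subgroup.index_ker, kU]
    show Nat.card (Cfsg.PSU 4 F 2) = 25920
    have hF2 : Fintype.card F = 2 ^ 2 := by rw [hF]; norm_num
    have h1 := Unitary.card_PSU (n := 4) hF2 (by norm_num)
    have h2 := Unitary.card_GU_eq_mul_card_SU (n := 4) hF2 (by norm_num)
    rw [Unitary.card_GU hF2] at h2
    have h3 : ∏ i ∈ Finset.range 4, Unitary.guFactor 2 i = 3 * 3 * 9 * 15 := by decide
    rw [h3] at h2
    norm_num [-Nat.card_eq_fintype_card] at h1 h2
    omega
  have heq : φS.range = φU.range := Subgroup.eq_of_le_of_card_ge hle (by rw [hS, hU])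
  exact ⟨((QuotientGroup.quotientMulEquivOfEq kU.symm).trans
    (QuotientGroup.quotientKerEquivRange φU)).trans
    (((QuotientGroup.quotientMulEquivOfEq kS.symm).trans (QuotientGroup.quotientKerEquivRange φS)).trans
      (MulEquiv.subgroupCongr heq)).symm⟩

end Cfsg.Agent.H20.UFourTwo
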