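import Cfsg.Agent.H20.UFourTwoData

/-!
Finite checks for `PSU₄(2) ≅ PSp₄(3)`, on codes.
-/

set_option autoImplicit false

namespace Cfsg.Agent.H20.UFourTwo

/-- Coordinates of a symplectic point. -/
def pointS (i k : ℕ) : ℕ := packS.getD i 0 / 3 ^ k % 3

/-- Coordinates of a hermitian point. -/
def pointU (i k : ℕ) : ℕ := packU.getD i 0 / 4 ^ k % 4

/-- Image of a point under the transvection at a point. -/
def tableN (i j : ℕ) : ℕ := packT.getD i 0 / 64 ^ j % 64

/-- Product of codes. -/
def mulC (a b : ℕ) : ℕ := bif a == 0 || b == 0 then 0 else (a + b - 2) % 3 + 1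

/-- Square of a code. -/
def sqC (a : ℕ) : ℕ := mulC a a

/-- Cube of a code. -/
def cubeC (a : ℕ) : ℕ := mulC a (mulC a a)

/-- Entries of the reflection at a point, normalised to determinant one. -/
def reflC (i r c : ℕ) : ℕ :=
  mulC 2 ((bif r == c then 1 else 0) ^^^ mulC 2 (mulC (pointU i r) (sqC (pointU i c))))

theorem code_bound :
    ((List.range 4).all fun a => (List.range 4).all fun b => decide (mulC a b < 4 ∧ a ^^^ b < 4)) = true := by
  decide +kernel

theorem tableN_lt :
    ((List.range 40).all fun i => (List.range 40).all fun j => decide (tableN i j < 40)) = true := by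
  decide +kernel

theorem vS_ne :
    ((List.range 40).all fun i => (List.range 4).any fun k => pointS i k != 0) = true := by
  decide +kernel

theorem vU_norm :
    ((List.range 40).all fun i =>
      cubeC (pointU i 0) ^^^ cubeC (pointU i 1) ^^^ cubeC (pointU i 2) ^^^ cubeC (pointU i 3) == 1) = true := by
  decide +kernel

theorem vS_unique :
    ((List.range 40).all fun i => (List.range 40).all fun j => (List.range 3).all fun d =>
      i == j || !((List.range 4).all fun k => pointS i k == d * pointS j k % 3)) = true := by
  decide +kernel

theorem vU_unique :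
    ((List.range 40).all fun i => (List.range 40).all fun j => (List.range 4).all fun d =>
      i == j || !((List.range 4).all fun k => pointU i k == mulC d (pointU j k))) = true := by
  decide +kernel

theorem vS_cover :
    ((List.range 81).all fun n => n == 0 ||
      (List.range 40).any fun j => (List.range 3).any fun d =>
        (List.range 4).all fun k => n / 3 ^ k % 3 == d * pointS j k % 3) = true := by
  decide +kernel

theorem vU_cover :
    ((List.range 256).all fun n =>
      cubeC (n % 4) ^^^ cubeC (n / 4 % 4) ^^^ cubeC (n / 16 % 4) ^^^ cubeC (n / 64 % 4) == 0 ||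
      (List.range 40).any fun j => (List.range 4).any fun d =>
        (List.range 4).all fun k => n / 4 ^ k % 4 == mulC d (pointU j k)) = true := by
  decide +kernel

theorem refl_unitary :
    ((List.range 40).all fun i => (List.range 4).all fun r => (List.range 4).all fun c =>
      mulC (reflC i 0 r) (sqC (reflC i 0 c)) ^^^ mulC (reflC i 1 r) (sqC (reflC i 1 c)) ^^^
      mulC (reflC i 2 r) (sqC (reflC i 2 c)) ^^^ mulC (reflC i 3 r) (sqC (reflC i 3 c)) ==
        bif r == c then 1 else 0) = true := by
  decide +kernel

/-- The symplectic form on coordinates, shifted to be a natural number. -/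
def sfC (x v : ℕ → ℕ) : ℕ := (2 * (x 0 * v 2) + 2 * (x 1 * v 3) + x 2 * v 0 + x 3 * v 1) % 3

theorem table_S :
    ((List.range 40).all fun i => (List.range 40).all fun j =>
      (List.range 3).any fun d => (List.range 4).all fun k =>
        (pointS j k + sfC (pointS j) (pointS i) * pointS i k) % 3 ==
          d * pointS (tableN i j) k % 3) = true := by
  decide +kernel

theorem table_U :
    ((List.range 40).all fun i => (List.range 40).all fun j =>
      (List.range 4).any fun d => (List.range 4).all fun k =>
        mulC (reflC i k 0) (pointU j 0) ^^^ mulC (reflC i k 1) (pointU j 1) ^^^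
        mulC (reflC i k 2) (pointU j 2) ^^^ mulC (reflC i k 3) (pointU j 3) ==
          mulC d (pointU (tableN i j) k)) = true := by
  decide +kernel

end Cfsg.Agent.H20.UFourTwo
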